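import Mathlib.RingTheory.LocalRing.ResidueField.Basic
import Mathlib.RingTheory.Noetherian.Basic
import Mathlib.RingTheory.Finiteness.Basic
import Mathlib.LinearAlgebra.Quotient.Basic
import Mathlib.RingTheory.Ideal.Oka
import Mathlib.RingTheory.Noetherian.OfPrime

/-!
Semilinear endomorphisms over a local ring with maximal ideal `(p)`, `p` nilpotent.
-/

set_option autoImplicit false
universe u v

namespace SigLinLib

open IsLocalRing

variable {R : Type u} [CommRing R] [IsLocalRing R] (p : R)
  (hmax : maximalIdeal R = Ideal.span {p}) (n : ℕ) (hn : p ^ n = 0)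
  (σ : R →+* R) (hp : σ p = p) (σbar : ResidueField R →+* ResidueField R)
  (hσbar : ∀ r : R, σbar (residue R r) = residue R (σ r))
  (h2 : ∀ (n : ℕ) (b : Fin (n + 1) → ResidueField R), b ≠ 0 →
      ∃ x : ResidueField R, x ≠ 0 ∧ x = ∑ i : Fin (n + 1), (⇑σbar)^[i.val + 1] x * (⇑σbar)^[i.val] (b (Fin.rev i)))
  (h3 : ∀ c : ResidueField R, ∃ y : ResidueField R, σbar y - y + c = 0)

include hmax in
lemma smul_eq {M : Type v} [AddCommGroup M] [Module R M] {x : M} (hx : p • x = 0) {r r' : R}
    (h : residue R r = residue R r') : r • x = r' • x := by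
  have : r - r' ∈ maximalIdeal R := by
    rw [← residue_eq_zero_iff, map_sub, h, sub_self]
  rw [hmax, Ideal.mem_span_singleton'] at this
  obtain ⟨a, ha⟩ := this
  rw [← sub_eq_zero, ← sub_smul, ← ha, mul_smul, hx, smul_zero]

include hmax hn hp hσbar h2 in
lemma exists_special {M : Type v} [AddCommGroup M] [Module R M] [IsNoetherian R M] [Nontrivial M]
    (T : M →ₛₗ[σ] M) :
    ∃ u : M, u ≠ 0 ∧ p • u = 0 ∧ (T u = u ∨ T u = 0) := by
  classical
  obtain ⟨v, hv, hpv⟩ : ∃ v : M, v ≠ 0 ∧ p • v = 0 := by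
    obtain ⟨x, hx⟩ := exists_ne (0 : M)
    have hex : ∃ j, p ^ j • x = 0 := ⟨n, by rw [hn, zero_smul]⟩
    have hj := Nat.find_spec hex
    obtain ⟨j, hj'⟩ : ∃ j, Nat.find hex = j + 1 := by
      refine Nat.exists_eq_succ_of_ne_zero fun h => hx ?_
      simpa [h] using hj
    refine ⟨p ^ j • x, Nat.find_min hex (by omega), ?_⟩
    rw [smul_smul, ← pow_succ', ← hj']
    exact hj
  let vs : ℕ → M := fun i => (⇑T)^[i] v
  have hTvs : ∀ i, T (vs i) = vs (i + 1) := fun i => (Function.iterate_succ_apply' (⇑T) i v).symm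
  have hpvs : ∀ i, p • vs i = 0 := by
    intro i
    induction i with
    | zero => exact hpv
    | succ i ih =>
      rw [← hTvs]
      calc p • T (vs i) = σ p • T (vs i) := by rw [hp]
        _ = T (p • vs i) := (T.map_smulₛₗ _ _).symm
        _ = 0 := by rw [ih, map_zero]
  let S : ℕ → Submodule R M := fun j => Submodule.span R (vs '' Set.Iio j)
  have hex : ∃ j, vs j ∈ S j := by
    obtain ⟨j, hj⟩ := monotone_stabilizes_iff_noetherian.mpr ‹IsNoetherian R M›
      ⟨S, fun a b h => Submodule.span_mono (Set.image_mono (Set.Iio_subset_Iio h))⟩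
    refine ⟨j, ?_⟩
    have := hj (j + 1) (Nat.le_succ j)
    change S j = S (j + 1) at this
    rw [this]
    exact Submodule.subset_span ⟨j, Set.mem_Iio.mpr (Nat.lt_succ_self j), rfl⟩
  have h0 : Nat.find hex ≠ 0 := fun h => hv (by
    have := h ▸ Nat.find_spec hex
    simpa [S, vs] using this)
  obtain ⟨m, hm⟩ := Nat.exists_eq_succ_of_ne_zero h0
  have hind : ∀ j, j ≤ m → vs j ∉ S j := fun j hj => Nat.find_min hex (by omega)
  obtain ⟨r, hr⟩ : ∃ r : ℕ → R, vs (m + 1) = ∑ i ∈ Finset.range (m + 1), r i • vs i := by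
    have := hm ▸ Nat.find_spec hex
    rw [show S (m + 1) = Submodule.span R (vs '' ↑(Finset.range (m + 1))) by simp [S],
      Submodule.mem_span_image_finset_iff_exists_fun] at this
    obtain ⟨c, hc⟩ := this
    refine ⟨fun i => if h : i ∈ Finset.range (m + 1) then c ⟨i, h⟩ else 0, ?_⟩
    rw [← hc, ← Finset.sum_coe_sort (Finset.range (m + 1))]
    exact Finset.sum_congr rfl fun x _ => by simp
  let B : ℕ → ResidueField R := fun i => residue R (r i)
  by_cases hB : ∀ i ≤ m, B i = 0
  · refine ⟨vs m, fun h => hind m le_rfl (h ▸ zero_mem _), hpvs m, Or.inr ?_⟩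
    rw [hTvs, hr]
    refine Finset.sum_eq_zero fun i hi => ?_
    rw [smul_eq p hmax (hpvs i) (r' := 0) (by
      rw [map_zero]; exact hB i (Nat.lt_succ_iff.mp (Finset.mem_range.mp hi))), zero_smul]
  · push Not at hB
    obtain ⟨i₀, hi₀, hB0⟩ := hB
    obtain ⟨y, hy0, hy⟩ := h2 m (fun i => B i) (fun h => hB0 (by
      simpa using congr_fun h ⟨i₀, Nat.lt_succ_of_le hi₀⟩))
    let X : ℕ → ResidueField R := fun j => Nat.rec (σbar y * B 0)
      (fun i xi => σbar xi + σbar y * B (i + 1)) j
    have hX : ∀ j, X j = ∑ i ∈ Finset.range (j + 1), (⇑σbar)^[i + 1] y * (⇑σbar)^[i] (B (j - i)) := by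
      intro j
      induction j with
      | zero => simp [X]
      | succ j ih =>
        show σbar (X j) + σbar y * B (j + 1) = _
        rw [ih, Finset.sum_range_succ' _ (j + 1), map_sum]
        congr 1
        refine Finset.sum_congr rfl fun i hi => ?_
        rw [map_mul, Function.iterate_succ_apply' (⇑σbar) (i + 1),
          Function.iterate_succ_apply' (⇑σbar) i (B _), Nat.add_sub_add_right]
    have hXm : X m = y := by
      rw [hX, Finset.sum_range]
      conv_rhs => rw [hy]
      refine Finset.sum_congr rfl fun i _ => ?_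
      simp [Fin.val_rev]
    choose L hL using residue_surjective (R := R)
    let w := ∑ i ∈ Finset.range (m + 1), L (X i) • vs i
    refine ⟨w, fun hw => ?_, ?_, Or.inl ?_⟩
    · apply hind m le_rfl
      simp only [w, Finset.sum_range_succ, add_eq_zero_iff_eq_neg'] at hw
      have hunit : IsUnit (L (X m)) := by
        rw [← residue_ne_zero_iff_isUnit, hL, hXm]; exact hy0
      rw [← Submodule.smul_mem_iff_of_isUnit _ hunit, hw]
      exact neg_mem (Submodule.sum_mem _ fun i hi => Submodule.smul_mem _ _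
        (Submodule.subset_span ⟨i, Finset.mem_range.mp hi, rfl⟩))
    · simp only [w, Finset.smul_sum, smul_comm p, hpvs, smul_zero, Finset.sum_const_zero]
    · have hT : T w = ∑ i ∈ Finset.range (m + 1), σ (L (X i)) • vs (i + 1) := by
        simp only [w, map_sum, T.map_smulₛₗ, hTvs]
      rw [hT, Finset.sum_range_succ, hr, Finset.smul_sum]
      simp only [smul_smul]
      rw [Finset.sum_range_succ' (fun i => (σ (L (X m)) * r i) • vs i), ← add_assoc,
        ← Finset.sum_add_distrib]
      show _ = w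
      simp only [w, Finset.sum_range_succ' _ m]
      congr 1
      · refine Finset.sum_congr rfl fun i _ => ?_
        rw [← add_smul]
        apply smul_eq p hmax (hpvs _)
        rw [map_add, map_mul, ← hσbar, ← hσbar, hL, hL, hL, hXm]
      · apply smul_eq p hmax (hpvs _)
        rw [map_mul, ← hσbar, hL, hL, hXm]
        rfl

include hmax hn hp hσbar h2 in
lemma exists_step {M : Type v} [AddCommGroup M] [Module R M] [IsNoetherian R M]
    (T : M →ₛₗ[σ] M) (N : Submodule R M) (hN : N ≠ ⊤) (hst : ∀ x ∈ N, T x ∈ N) :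
    ∃ u : M, u ∉ N ∧ p • u ∈ N ∧ (u - T u ∈ N ∨ T u ∈ N) := by
  haveI : Nontrivial (M ⧸ N) := Submodule.Quotient.nontrivial_iff.mpr hN
  obtain ⟨q, hq0, hpq, hTq⟩ := exists_special p hmax n hn σ hp σbar hσbar h2
    (N.mapQ N T (fun x hx => hst x hx))
  obtain ⟨u, rfl⟩ := Submodule.mkQ_surjective N q
  simp only [Submodule.mkQ_apply, Submodule.mapQ_apply] at hq0 hpq hTq
  refine ⟨u, fun h => hq0 ((Submodule.Quotient.mk_eq_zero N).mpr h), ?_, ?_⟩
  · rw [← Submodule.Quotient.mk_eq_zero N, Submodule.Quotient.mk_smul]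
    exact hpq
  · rcases hTq with h | h
    · left
      rw [← Submodule.Quotient.mk_eq_zero N, Submodule.Quotient.mk_sub, h, sub_self]
    · exact Or.inr ((Submodule.Quotient.mk_eq_zero N).mp h)

lemma stable_sup {M : Type v} [AddCommGroup M] [Module R M] {σ : R →+* R}
    (T : M →ₛₗ[σ] M) (N : Submodule R M) (hst : ∀ x ∈ N, T x ∈ N) (u : M)
    (hu : u - T u ∈ N ∨ T u ∈ N) :
    ∀ x ∈ N ⊔ Submodule.span R {u}, T x ∈ N ⊔ Submodule.span R {u} := by
  intro x hx
  obtain ⟨a, ha, b, hb, rfl⟩ := Submodule.mem_sup.mp hx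
  obtain ⟨c, rfl⟩ := Submodule.mem_span_singleton.mp hb
  rw [map_add, T.map_smulₛₗ]
  refine add_mem (Submodule.mem_sup_left (hst a ha)) (Submodule.smul_mem _ _ ?_)
  rcases hu with h | h
  · have := sub_mem (Submodule.mem_sup_right (Submodule.mem_span_singleton_self u) :
      u ∈ N ⊔ Submodule.span R {u}) (Submodule.mem_sup_left h)
    simpa using this
  · exact Submodule.mem_sup_left h

include hmax hn hp hσbar h2 h3 in
theorem surjective {M : Type v} [AddCommGroup M] [Module R M] [IsNoetherian R M]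
    (T : M →ₛₗ[σ] M) : ∀ v : M, ∃ w : M, w - T w = v := by
  suffices H : ∀ N : Submodule R M, (∀ x ∈ N, T x ∈ N) → ∀ v : M, ∃ w, v - (w - T w) ∈ N by
    intro v
    obtain ⟨w, hw⟩ := H ⊥ (fun x hx => by rw [(Submodule.mem_bot R).mp hx, map_zero]; exact zero_mem _) v
    exact ⟨w, (sub_eq_zero.mp ((Submodule.mem_bot R).mp hw)).symm⟩
  intro N
  induction N using IsNoetherian.induction with
  | hgt N ih =>
    intro hst v
    by_cases hN : N = ⊤
    · exact ⟨0, hN ▸ Submodule.mem_top⟩
    obtain ⟨u, hu, hpu, hTu⟩ := exists_step p hmax n hn σ hp σbar hσbar h2 T N hN hst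
    obtain ⟨w, hw⟩ := ih (N ⊔ Submodule.span R {u})
      (lt_of_le_of_ne le_sup_left fun h => hu (h ▸ Submodule.mem_sup_right
        (Submodule.mem_span_singleton_self u))) (stable_sup T N hst u hTu) v
    obtain ⟨a, ha, b, hb, hab⟩ := Submodule.mem_sup.mp hw
    obtain ⟨c, rfl⟩ := Submodule.mem_span_singleton.mp hb
    rcases hTu with h | h
    · obtain ⟨y, hy⟩ := h3 (residue R c)
      obtain ⟨d, rfl⟩ := residue_surjective y
      have hcd : c - (d - σ d) ∈ maximalIdeal R := by
        rw [← residue_eq_zero_iff, map_sub, map_sub, ← hσbar, ← hy]; ring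
      rw [hmax, Ideal.mem_span_singleton'] at hcd
      obtain ⟨e, he⟩ := hcd
      refine ⟨w + d • u, ?_⟩
      have key : v - ((w + d • u) - T (w + d • u)) = a + (e * p) • u - σ d • (u - T u) := by
        rw [map_add, T.map_smulₛₗ, he, smul_sub, sub_smul c, sub_smul d,
          eq_sub_of_add_eq hab]
        abel
      rw [key, mul_smul]
      exact sub_mem (add_mem ha (N.smul_mem _ hpu)) (N.smul_mem _ h)
    · refine ⟨w + c • u, ?_⟩
      have key : v - ((w + c • u) - T (w + c • u)) = a + σ c • T u := by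
        rw [map_add, T.map_smulₛₗ, eq_sub_of_add_eq hab]
        abel
      rw [key]
      exact add_mem ha (N.smul_mem _ h)

include hmax hn hp hσbar h2 h3 in
theorem fixed_fg (hlift : ∀ x : ResidueField R, σbar x = x → ∃ r : R, σ r = r ∧ residue R r = x)
    {M : Type v} [AddCommGroup M] [Module R M] [IsNoetherian R M] (T : M →ₛₗ[σ] M) :
    ∃ s : Finset M, (∀ m ∈ s, T m = m) ∧
      ∀ m : M, T m = m → ∃ c : M → R, (∀ x ∈ s, σ (c x) = c x) ∧ m = ∑ x ∈ s, c x • x := by
  classical
  suffices H : ∀ N : Submodule R M, (∀ x ∈ N, T x ∈ N) → ∃ s : Finset M, (∀ m ∈ s, T m = m) ∧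
      ∀ m : M, m - T m ∈ N → ∃ c : M → R, (∀ x ∈ s, σ (c x) = c x) ∧ m - ∑ x ∈ s, c x • x ∈ N by
    obtain ⟨s, hs, h⟩ := H ⊥ (fun x hx => by rw [(Submodule.mem_bot R).mp hx, map_zero]; exact zero_mem _)
    refine ⟨s, hs, fun m hm => ?_⟩
    obtain ⟨c, hc, hmc⟩ := h m (by rw [hm, sub_self]; exact zero_mem _)
    exact ⟨c, hc, sub_eq_zero.mp ((Submodule.mem_bot R).mp hmc)⟩
  intro N
  induction N using IsNoetherian.induction with
  | hgt N ih =>
    intro hst
    by_cases hN : N = ⊤
    · exact ⟨∅, by simp, fun m _ => ⟨0, by simp, hN ▸ Submodule.mem_top⟩⟩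
    obtain ⟨u, hu, hpu, hTu⟩ := exists_step p hmax n hn σ hp σbar hσbar h2 T N hN hst
    obtain ⟨s, hs, hfg⟩ := ih (N ⊔ Submodule.span R {u})
      (lt_of_le_of_ne le_sup_left fun h => hu (h ▸ Submodule.mem_sup_right
        (Submodule.mem_span_singleton_self u))) (stable_sup T N hst u hTu)
    -- reduce `m` modulo `N ⊔ R u`
    have step : ∀ m : M, m - T m ∈ N → ∃ (c : M → R) (b : R), (∀ x ∈ s, σ (c x) = c x) ∧
        m - ∑ x ∈ s, c x • x - b • u ∈ N ∧ b • u - σ b • T u ∈ N := by
      intro m hm
      obtain ⟨c, hc, hmc⟩ := hfg m (Submodule.mem_sup_left hm)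
      obtain ⟨a, ha, _, hb, hab⟩ := Submodule.mem_sup.mp hmc
      obtain ⟨b, rfl⟩ := Submodule.mem_span_singleton.mp hb
      have h1 : m - ∑ x ∈ s, c x • x - b • u ∈ N := by
        rw [← hab, add_sub_cancel_right]
        exact ha
      refine ⟨c, b, hc, h1, ?_⟩
      have hsum : T (∑ x ∈ s, c x • x) = ∑ x ∈ s, c x • x := by
        rw [map_sum]
        exact Finset.sum_congr rfl fun x hx => by rw [T.map_smulₛₗ, hc x hx, hs x hx]
      have h2 := sub_mem hm (sub_mem h1 (hst _ h1))
      rw [map_sub, map_sub, hsum, T.map_smulₛₗ] at h2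
      convert h2 using 1
      abel
    rcases hTu with h | h
    · haveI : IsNoetherian R N := inferInstance
      obtain ⟨a, ha⟩ := surjective p hmax n hn σ hp σbar hσbar h2 h3
        ((T.domRestrict N).codRestrict N fun x => hst x x.2) ⟨u - T u, h⟩
      have ha' : (a : M) - T a = u - T u := congrArg Subtype.val ha
      set u' := u - (a : M) with hu'
      have hTu' : T u' = u' := by
        rw [hu', map_sub]
        exact eq_of_sub_eq_zero (by rw [← sub_eq_zero.mpr ha']; abel)
      refine ⟨insert u' s, fun m hm => ?_, fun m hm => ?_⟩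
      · rcases Finset.mem_insert.mp hm with rfl | h'
        · exact hTu'
        · exact hs m h'
      obtain ⟨c, b, hc, h1, h2'⟩ := step m hm
      have hb : σbar (residue R b) = residue R b := by
        rw [hσbar]
        by_contra hne
        have hunit : IsUnit (b - σ b) := by
          rw [← residue_ne_zero_iff_isUnit, map_sub, sub_ne_zero]; exact Ne.symm hne
        apply hu
        rw [← Submodule.smul_mem_iff_of_isUnit N hunit]
        have := sub_mem h2' (N.smul_mem (σ b) h)
        convert this using 1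
        rw [smul_sub, sub_smul]; abel
      obtain ⟨r, hr, hrb⟩ := hlift _ hb
      refine ⟨fun x => (if x ∈ s then c x else 0) + if x = u' then r else 0, fun x _ => ?_, ?_⟩
      · dsimp only
        rw [map_add]
        congr 1
        · split_ifs with e
          · exact hc x e
          · exact map_zero σ
        · split_ifs with e
          · exact hr
          · exact map_zero σ
      · have hsum : ∑ x ∈ insert u' s, ((if x ∈ s then c x else 0) + if x = u' then r else 0) • x =
            (∑ x ∈ s, c x • x) + r • u' := by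
          simp only [add_smul, Finset.sum_add_distrib, ite_smul, zero_smul, Finset.sum_ite_eq',
            Finset.mem_insert_self, if_true]
          congr 1
          rw [← Finset.sum_filter]
          refine Finset.sum_congr ?_ fun _ _ => rfl
          ext x
          simp +contextual
        rw [hsum]
        have hbr : b - r ∈ maximalIdeal R := by
          rw [← residue_eq_zero_iff, map_sub, hrb, sub_self]
        rw [hmax, Ideal.mem_span_singleton'] at hbr
        obtain ⟨e, he⟩ := hbr
        have := add_mem (add_mem h1 (N.smul_mem e hpu)) (N.smul_mem r a.2)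
        convert this using 1
        rw [smul_smul, he, hu', sub_smul, smul_sub]; abel
    · refine ⟨s, hs, fun m hm => ?_⟩
      obtain ⟨c, b, hc, h1, h2'⟩ := step m hm
      refine ⟨c, hc, ?_⟩
      have := add_mem (add_mem h1 h2') (N.smul_mem (σ b) h)
      convert this using 1
      abel

include hmax hn in
theorem isNoetherianRing : IsNoetherianRing R := by
  refine IsNoetherianRing.of_prime fun P hP => ?_
  have hp : p ∈ P := hP.mem_of_pow_mem n (by rw [hn]; exact zero_mem _)
  have hle : maximalIdeal R ≤ P := by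
    rw [hmax, Ideal.span_singleton_le_iff_mem]; exact hp
  rw [le_antisymm (le_maximalIdeal hP.ne_top) hle, hmax]
  exact ⟨{p}, by rw [Finset.coe_singleton]⟩

end SigLinLib
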